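import Mathlib
import Cfsg.Agent.FastGrp
import Cfsg.Agent.Prune
set_option linter.all false
prune_inst 0x7f00000000000000000000000000000000000000000000000000000000000000000000000000000000000000000000000000000000000000000000000000000000000000000000000000000000000000003fffffffffffffffffffffffffffbeffbdffffffff
open scoped Cfsg.Agent.FastGrp

/-!
# Theorem (U): the rank one computation for weight vectors (helper421)
-/

set_option autoImplicit false
set_option linter.unusedSectionVars false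

namespace Cfsg.Agent.H421.Uni

open Polynomial

section pow

variable {F k : Type*} [Field F] [Fintype F] [Field k] [Algebra F k]

/-- elements of `k` with `x ^ card F = x` come from `F` -/
theorem exists_of_pow {x : k} (hx : x ^ Fintype.card F = x) : ∃ a : F, algebraMap F k a = x := by
  classical
  by_contra hne
  push Not at hne
  set q := Fintype.card F with hq
  have h1q : 1 < q := Fintype.one_lt_card
  have h0 : (X ^ q - X : k[X]) ≠ 0 := FiniteField.X_pow_card_sub_X_ne_zero k h1q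
  have h1 : insert x (Finset.univ.image (algebraMap F k)) ⊆ (X ^ q - X : k[X]).roots.toFinset := by
    intro y hy
    rw [Multiset.mem_toFinset, mem_roots h0, IsRoot.def, eval_sub, eval_pow, eval_X, sub_eq_zero]
    rw [Finset.mem_insert, Finset.mem_image] at hy
    rcases hy with rfl | ⟨a, -, rfl⟩
    · exact hx
    · rw [← map_pow, FiniteField.pow_card]
  have h2 := Finset.card_le_card h1
  rw [Finset.card_insert_of_notMem, Finset.card_image_of_injective _ (algebraMap F k).injective,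
    Finset.card_univ, ← hq] at h2
  · have h3 := (Multiset.toFinset_card_le (X ^ q - X : k[X]).roots).trans (card_roots' _)
    rw [FiniteField.X_pow_card_sub_X_natDegree_eq k h1q] at h3
    omega
  · intro hmem
    obtain ⟨a, -, ha⟩ := Finset.mem_image.1 hmem
    exact hne a ha

/-- characters of `Fˣ` in `k` are powers -/
theorem exists_pow (χ : Fˣ →* kˣ) : ∃ j < Fintype.card F - 1, ∀ b : Fˣ, (χ b : k) = algebraMap F k (b : F) ^ j := by
  classical
  obtain ⟨g, hg⟩ := IsCyclic.exists_generator (α := Fˣ)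
  have hcard : Fintype.card Fˣ = Fintype.card F - 1 := Fintype.card_units F
  have h1q : 1 < Fintype.card F := Fintype.one_lt_card
  have h1 : ((χ g : kˣ) : k) ^ Fintype.card F = χ g := by
    have h2 : (χ g) ^ Fintype.card F = χ g := by
      rw [← map_pow]
      congr 1
      apply Units.ext
      rw [Units.val_pow_eq_pow_val, FiniteField.pow_card]
    exact_mod_cast congrArg Units.val h2
  obtain ⟨a, ha⟩ := exists_of_pow (F := F) h1
  have ha0 : a ≠ 0 := by
    rintro rfl
    rw [map_zero] at ha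
    exact (χ g).ne_zero ha.symm
  have h3 : ∃ j < Fintype.card F - 1, g ^ j = Units.mk0 a ha0 := by
    have h4 : Units.mk0 a ha0 ∈ Submonoid.powers g := by
      rw [mem_powers_iff_mem_zpowers]
      exact hg _
    rw [mem_powers_iff_mem_range_orderOf, Finset.mem_image] at h4
    obtain ⟨j, hj, e⟩ := h4
    rw [Finset.mem_range] at hj
    refine ⟨j, hj.trans_le ?_, e⟩
    rw [← hcard]
    exact orderOf_le_card_univ
  obtain ⟨j, hj, e⟩ := h3
  refine ⟨j, hj, fun b => ?_⟩
  have h5 : b ∈ Submonoid.powers g := by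
    rw [mem_powers_iff_mem_zpowers]
    exact hg _
  obtain ⟨i, rfl⟩ := h5
  have h6 : ((g : Fˣ) : F) ^ j = a := by
    have := congrArg Units.val e
    rwa [Units.val_pow_eq_pow_val, Units.val_mk0] at this
  simp only [map_pow, Units.val_pow_eq_pow_val]
  rw [← ha, ← h6, map_pow, ← pow_mul, ← pow_mul, mul_comm]

theorem sum_units [DecidableEq F] {M : Type*} [AddCommMonoid M] (f : F → M) :
    ∑ s, f s = f 0 + ∑ c : Fˣ, f c := by
  rw [← Finset.add_sum_erase _ _ (Finset.mem_univ (0 : F))]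
  congr 1
  refine Finset.sum_bij' (i := fun a ha => Units.mk0 a (Finset.ne_of_mem_erase ha)) (j := fun c _ => (c : F)) ?_ ?_ ?_ ?_ ?_
  · intro a _; exact Finset.mem_univ _
  · intro c _; exact Finset.mem_erase.2 ⟨c.ne_zero, Finset.mem_univ _⟩
  · intro a _; rfl
  · intro c _; exact Units.ext rfl
  · intro a _; rfl

end pow

section rk

variable {F k W Y : Type*} [Field F] [Fintype F] [Field k] [Algebra F k] [AddCommGroup W] [Module k W] [Group Y]

theorem braid {x y : F → Y} {h : Fˣ → Y} (h2 : (2 : F) ≠ 0)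
    (hx : ∀ s t, x (s + t) = x s * x t) (hy : ∀ s t, y (s + t) = y s * y t) (hh : ∀ b c, h (b * c) = h b * h c)
    (hrk : ∀ (a s : F) (c : Fˣ), (c : F) = 1 + a * s → x a * y s = y (s / c) * h c * x (a / c))
    (hhx : ∀ (c : Fˣ) (a : F), h c * x a = x ((c : F) ^ 2 * a) * h c) :
    y 1 * x (-1) * y 1 = x (-1) * y 1 * x (-1) := by
  have hx0 : x 0 = 1 := by
    have := hx 0 0
    rw [add_zero] at this
    exact (mul_eq_left.1 this.symm)
  have hy0 : y 0 = 1 := by
    have := hy 0 0
    rw [add_zero] at this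
    exact (mul_eq_left.1 this.symm)
  have hh1 : h 1 = 1 := by
    have := hh 1 1
    rw [mul_one] at this
    exact (mul_eq_left.1 this.symm)
  have hxn : ∀ s, x (-s) = (x s)⁻¹ := by
    intro s
    rw [eq_inv_iff_mul_eq_one, ← hx, neg_add_cancel, hx0]
  have hyn : ∀ s, y (-s) = (y s)⁻¹ := by
    intro s
    rw [eq_inv_iff_mul_eq_one, ← hy, neg_add_cancel, hy0]
  set c : Fˣ := Units.mk0 2 h2 with hc
  have hcv : (c : F) = 2 := rfl
  -- `x 1 y 1 = y (1/2) h 2 x (1/2)`
  have e1 : x 1 * y 1 = y (1 / 2) * h c * x (1 / 2) := by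
    have := hrk 1 1 c (by rw [hcv]; norm_num)
    rwa [hcv] at this
  have e2 : (x 1 * y 1)⁻¹ = x (-(1/2)) * (h c)⁻¹ * y (-(1/2)) := by
    rw [e1, hxn, hyn]; group
  -- `x (-1) y (-1) = y (-1/2) h 2 x (-1/2)`
  have e3 : x (-1) * y (-1) = y (-(1 / 2)) * h c * x (-(1 / 2)) := by
    have := hrk (-1) (-1) c (by rw [hcv]; norm_num)
    rw [hcv] at this
    rw [this]
    congr 2 <;> ring_nf
  have e4 : y 1 * x 1 = x (1 / 2) * (h c)⁻¹ * y (1 / 2) := by
    have : y 1 * x 1 = (x (-1) * y (-1))⁻¹ := by rw [hxn, hyn]; group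
    rw [this, e3, hxn, hyn]; group
  have e5 : (h c)⁻¹ * x 2 = x (1 / 2) * (h c)⁻¹ := by
    have := hhx c (1 / 2)
    have h22 : (2 : F) ^ 2 * (1 / 2) = 2 := by field_simp
    rw [hcv, h22] at this
    rw [inv_mul_eq_iff_eq_mul, ← mul_assoc, this]; group
  -- `x 1 y 1 x (-1) y 1 x 1 y (-1) = 1`
  have key : x 1 * y 1 * x (-1) * (y 1 * x 1) * y (-1) = 1 := by
    rw [e1, e4]
    have e6 : x (1 / 2) * x (-1) * x (1 / 2) = 1 := by
      rw [← hx, ← hx, ← hx0]
      congr 1
      field_simp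
      norm_num
    have e7 : y (1 / 2) * y (-1) * y (1 / 2) = 1 := by
      rw [← hy, ← hy, ← hy0]
      congr 1
      field_simp
      norm_num
    calc y (1 / 2) * h c * x (1 / 2) * x (-1) * (x (1 / 2) * (h c)⁻¹ * y (1 / 2)) * y (-1)
        = y (1 / 2) * h c * (x (1 / 2) * x (-1) * x (1 / 2)) * (h c)⁻¹ * y (1 / 2) * y (-1) := by group
      _ = y (1 / 2) * (y (1 / 2) * y (-1) * y (1 / 2)) * (y (1 / 2))⁻¹ := by rw [e6]; group
      _ = 1 := by rw [e7]; group
  have e8 : y 1 * x (-1) * y 1 = (x 1)⁻¹ * (x 1 * y 1 * x (-1) * (y 1 * x 1) * y (-1)) * (y (-1))⁻¹ * (x 1)⁻¹ := by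
    group
  rw [e8, key, hyn, hxn]
  group

theorem rank_one (h2 : (2 : F) ≠ 0) (ρ : Y →* Module.End k W) (x y : F → Y) (h : Fˣ → Y)
    (hx : ∀ s t, x (s + t) = x s * x t) (hy : ∀ s t, y (s + t) = y s * y t) (hh : ∀ b c, h (b * c) = h b * h c)
    (hrk : ∀ (a s : F) (c : Fˣ), (c : F) = 1 + a * s → x a * y s = y (s / c) * h c * x (a / c))
    (hhx : ∀ (c : Fˣ) (a : F), h c * x a = x ((c : F) ^ 2 * a) * h c)
    {v : W} (hv : v ≠ 0) (hfix : ∀ s, ρ (x s) v = v) (hT : ∀ b, ∃ c : k, ρ (h b) v = c • v)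
    (hθ : ∃ θ : k, ∑ s, ρ (x s) (ρ (y 1) v) = θ • v) :
    ∃ a < Fintype.card F, (∀ b : Fˣ, ρ (h b) v = algebraMap F k b ^ a • v) ∧
      ρ (x (-1) * y 1) v = - ∑ t : F, algebraMap F k t ^ (Fintype.card F - 1 - a) • ρ (y t) v := by
  classical
  have hmul : ∀ (g g' : Y) (w : W), ρ (g * g') w = ρ g (ρ g' w) := fun g g' w => by rw [map_mul]; rfl
  have hone : ∀ w : W, ρ 1 w = w := fun w => by rw [map_one]; rfl
  have hbr := braid h2 hx hy hh hrk hhx
  have hy0 : y 0 = 1 := by
    have := hy 0 0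
    rw [add_zero] at this
    exact (mul_eq_left.1 this.symm)
  have hh1 : h 1 = 1 := by
    have := hh 1 1
    rw [mul_one] at this
    exact (mul_eq_left.1 this.symm)
  have hq0 : ((Fintype.card F : ℕ) : k) = 0 := by
    have h1 : ((Fintype.card F : ℕ) : F) = 0 := Nat.cast_card_eq_zero F
    have h2 := congrArg (algebraMap F k) h1
    rwa [map_natCast, map_zero] at h2
  choose χ0 hχ0 using hT
  have hinj : ∀ c d : k, c • v = d • v → c = d := fun c d e => smul_left_injective k hv e
  -- the character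
  let χ1 : Fˣ →* k :=
    { toFun := χ0
      map_one' := by
        apply hinj
        rw [← hχ0, hh1, hone, one_smul]
      map_mul' := by
        intro b c
        apply hinj
        rw [← hχ0, hh, hmul, hχ0, map_smul, hχ0, smul_smul, mul_comm] }
  set χ := χ1.toHomUnits with hχdef
  have hχ : ∀ b, ρ (h b) v = (χ b : k) • v := fun b => hχ0 b
  obtain ⟨θ, hθ⟩ := hθ
  set D : W → W := fun w => ∑ s, ρ (x s) w with hD
  have hDx : ∀ a w, D (ρ (x a) w) = D w := by
    intro a w
    simp only [hD]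
    refine Fintype.sum_equiv (Equiv.addRight a) _ _ fun s => ?_
    rw [← hmul, ← hx]; rfl
  have hDs : ∀ (c : k) w, D (c • w) = c • D w := by
    intro c w
    simp only [hD, map_smul, Finset.smul_sum]
  have hDv : D v = 0 := by
    simp only [hD, hfix]
    rw [Finset.sum_const, Finset.card_univ, ← Nat.cast_smul_eq_nsmul k, hq0, zero_smul]
  have hθ' : D (ρ (y 1) v) = θ • v := hθ
  -- `y c v`
  have hyc : ∀ c : Fˣ, ρ (y c) v = (χ c : k) • ρ (x ((c⁻¹ : Fˣ) - 1)) (ρ (y 1) v) := by
    intro c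
    have h1 := hrk ((c⁻¹ : Fˣ) - 1) 1 c⁻¹ (by ring)
    have h3 : (1 : F) / ((c⁻¹ : Fˣ) : F) = c := by rw [Units.val_inv_eq_inv_val]; simp
    rw [h3] at h1
    rw [← hmul, h1, hmul, hfix, hmul, hχ, map_smul, smul_smul, map_inv, Units.val_inv_eq_inv_val,
      mul_inv_cancel₀ (χ c).ne_zero, one_smul]
  have hDyc : ∀ c : Fˣ, D (ρ (y c) v) = (χ c : k) • θ • v := by
    intro c
    rw [hyc, hDs, hDx, hθ']
  -- the square
  set f : F → k := fun d => if hd : d = 0 then 0 else (χ (Units.mk0 d hd) : k) with hf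
  have hf0 : f 0 = 0 := dif_pos rfl
  have hfu : ∀ c : Fˣ, f c = χ c := by
    intro c
    simp only [hf]
    rw [dif_neg c.ne_zero]
    congr 2
    exact Units.ext rfl
  have hE : ∀ s : F, D (ρ (y 1) (ρ (x s) (ρ (y 1) v))) = f (s + 2) • θ • v := by
    intro s
    by_cases hs : 1 + s = 0
    · have hs' : s = -1 := by linear_combination hs
      subst hs'
      have e1 : (-1 : F) + 2 = ((1 : Fˣ) : F) := by rw [Units.val_one]; norm_num
      rw [← hmul, ← hmul, hbr, hmul, hfix, hmul, hDx, hθ', e1, hfu, map_one, Units.val_one, one_smul]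
    · set c : Fˣ := Units.mk0 (1 + s) hs with hc
      have hcv : (c : F) = 1 + s := rfl
      have h1 := hrk s 1 c (by rw [hcv]; ring)
      have h3 : ρ (x s) (ρ (y 1) v) = (χ c : k) • ρ (y (1 / c)) v := by
        rw [← hmul, h1, hmul, hfix, hmul, hχ, map_smul]
      rw [h3, map_smul, ← hmul, ← hy, hDs]
      by_cases hs2 : s + 2 = 0
      · have h4 : (1 : F) + 1 / (c : F) = 0 := by
          rw [hcv]
          have : (1 : F) + s = -1 := by linear_combination hs2
          rw [this]; norm_num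
        rw [h4, hy0, hone, hDv, smul_zero, hs2, hf0, zero_smul]
      · set d : Fˣ := Units.mk0 (s + 2) hs2 with hd
        have hdv : (d : F) = s + 2 := rfl
        have h4 : (1 : F) + 1 / (c : F) = ((c⁻¹ * d : Fˣ) : F) := by
          rw [Units.val_mul, Units.val_inv_eq_inv_val, hdv, hcv]
          field_simp
          ring
        rw [h4, hDyc, ← hdv, hfu, map_mul, map_inv, Units.val_mul, Units.val_inv_eq_inv_val, smul_smul,
          ← mul_assoc, mul_inv_cancel₀ (χ c).ne_zero, one_mul]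
  have hsq : θ * θ = (∑ c : Fˣ, (χ c : k)) * θ := by
    apply hinj
    have h1 : D (ρ (y 1) (D (ρ (y 1) v))) = (θ * θ) • v := by
      rw [hθ', map_smul, hDs, hθ', smul_smul]
    rw [← h1]
    have h3 : D (ρ (y 1) (D (ρ (y 1) v))) = ∑ s, D (ρ (y 1) (ρ (x s) (ρ (y 1) v))) := by
      simp only [hD, map_sum]
      rw [Finset.sum_comm]
    rw [h3]
    simp only [hE]
    rw [← Finset.sum_smul, smul_smul]
    congr 2
    rw [Fintype.sum_equiv (Equiv.addRight (2 : F)) (fun s => f (s + 2)) f fun s => rfl, sum_units, hf0, zero_add]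
    exact Finset.sum_congr rfl fun c _ => hfu c
  -- the expansion
  have hexp : ρ (x (-1) * y 1) v = θ • v - ∑ c : Fˣ, ((χ c : k))⁻¹ • ρ (y c) v := by
    have h1 : ∑ s, ρ (x s) (ρ (y 1) v) = ∑ s, ρ (x (s - 1)) (ρ (y 1) v) :=
      (Fintype.sum_equiv (Equiv.subRight (1 : F)) (fun s => ρ (x (s - 1)) (ρ (y 1) v)) _ fun s => rfl).symm
    have h3 : ∑ c : Fˣ, ((χ c : k))⁻¹ • ρ (y c) v = ∑ c : Fˣ, ρ (x ((c : F) - 1)) (ρ (y 1) v) := by
      refine Fintype.sum_equiv (Equiv.inv Fˣ) _ _ fun c => ?_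
      rw [hyc, smul_smul, inv_mul_cancel₀ (χ c).ne_zero, one_smul]
      rfl
    rw [h3, ← hθ, h1, sum_units, zero_sub, hmul]
    abel
  obtain ⟨j, hj, hχj⟩ := exists_pow χ
  have h1q : 1 < Fintype.card F := Fintype.one_lt_card
  by_cases hth : θ = 0
  · refine ⟨j, by omega, fun b => by rw [hχ, hχj], ?_⟩
    rw [hexp, hth, zero_smul, zero_sub, sum_units (fun t : F => algebraMap F k t ^ (Fintype.card F - 1 - j) • ρ (y t) v),
      map_zero, zero_pow (by omega), zero_smul, zero_add]
    congr 1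
    refine Finset.sum_congr rfl fun c _ => ?_
    congr 1
    refine inv_eq_of_mul_eq_one_right ?_
    rw [hχj, ← pow_add, show j + (Fintype.card F - 1 - j) = Fintype.card F - 1 by omega, ← map_pow,
      FiniteField.pow_card_sub_one_eq_one _ c.ne_zero, map_one]
  · have hth' : θ = ∑ c : Fˣ, (χ c : k) := mul_right_cancel₀ hth hsq
    have hχ1 : χ1 = 1 := by
      by_contra hne
      apply hth
      rw [hth']
      exact sum_hom_units_eq_zero χ1 hne
    have hχ2 : ∀ c, (χ c : k) = 1 := fun c => DFunLike.congr_fun hχ1 c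
    have hθ1 : θ = -1 := by
      rw [hth', Finset.sum_congr rfl fun c _ => hχ2 c, Finset.sum_const, Finset.card_univ, Fintype.card_units,
        nsmul_eq_mul, mul_one, Nat.cast_sub h1q.le, hq0, Nat.cast_one, zero_sub]
    refine ⟨Fintype.card F - 1, by omega, fun b => ?_, ?_⟩
    · rw [hχ, hχ2, ← map_pow, FiniteField.pow_card_sub_one_eq_one _ b.ne_zero, map_one]
    · rw [hexp, hθ1, sum_units (fun t : F => algebraMap F k t ^ (Fintype.card F - 1 - (Fintype.card F - 1)) • ρ (y t) v)]
      simp only [Nat.sub_self, pow_zero, one_smul, hχ2, inv_one, hy0, hone, neg_smul]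
      abel

end rk

end Cfsg.Agent.H421.Uni
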