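import Cfsg.Agent.H421.Uni.Unip
import Cfsg.Agent.Nodes.RGDOrth
import Cfsg.Agent.Nodes.WittModel
import Cfsg.Agent.Mrg.Omega.Lie.End.KSideMain
import Cfsg.Agent.H421.Uni.RkOne
import Cfsg.Agent.FastGrp
import Cfsg.Agent.Prune
set_option linter.all false
prune_inst 0x7f00000000000000000000000000000000000000000000000000000000000000000000000000000000000000000000000000000000000000000000000000000000000000000000000000000000000000003fffffffffffffffffffffffffffbeffbdffffffff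
open scoped Cfsg.Agent.FastGrp

-- part: H421/Uni/Rgd
section
/-!
# Theorem (U): the root group datum of `GG m F`, a weight vector (helper421, for helper45)
-/

set_option autoImplicit false
set_option linter.unusedSectionVars false

namespace Cfsg.Agent.H421.Uni

open QuadraticMap Cfsg.Agent.LieClassical Cfsg.Agent.LieClassical.OrthCore Cfsg.Agent.LieClassical.OmegaReindex
  Cfsg.Agent.LieClassical.OrthForms Cfsg.Agent.H45.Uni Cfsg.Agent.TitsThree.KSideO
  Cfsg.Agent.TitsThree.SiegelGen Cfsg.Agent.TitsThree.Siegel Cfsg.Agent.TitsThree.WittFrame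
  Cfsg.Agent.TitsThree.WBridge
open CoxeterSystem Cfsg.Agent.ChevalleyStructure.CoxeterGeom Cfsg.Agent.Tits.Roots Cfsg.Agent.Tits.Core
  Cfsg.Agent.Tits.Exchange Cfsg.Agent.Nodes.Reps Cfsg.Agent.Nodes.BNOf Cfsg.Agent.Nodes.TypeC
  Cfsg.Agent.Nodes.WittRoot Cfsg.Agent.Nodes.WittRGD Cfsg.Agent.Nodes.RGDLib

/-! ### a common eigenvector -/

section vec

variable {I W Y : Type*} [Fintype I] [DecidableEq I] [Group W] [Group Y] {M : CoxeterMatrix I}
  {cs : CoxeterSystem M W} {A : I → I → ℤ} {h : IsCartan M A} {p : ℕ} {T : Subgroup Y} {n : I → Y}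
  {X : (I → ℤ) → Subgroup Y}

theorem exists_vec [Finite W] [Finite Y] [Fact p.Prime] (R : RGD cs h p T n X) {k V : Type*} [Field k] [CharP k p]
    [IsAlgClosed k] [AddCommGroup V] [Module k V] [FiniteDimensional k V] [Nontrivial V]
    (ρ : Y →* Module.End k V) (hT : ∀ s ∈ T, ∀ t ∈ T, s * t = t * s) :
    ∃ v : V, v ≠ 0 ∧ (∀ u ∈ RGD.Sup X (RGD.Pos cs h), ρ u v = v) ∧ (∀ t ∈ T, ∃ c : k, ρ t v = c • v) ∧
      ∀ i, ∃ c : k, Omega.CR.Ti n X ρ i v = c • v := by
  have hP := R.isPGroup_Upos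
  obtain ⟨v1, -, hv1, hv1'⟩ := Omega.CR.exists_fixed ρ hP ⊤ (fun _ _ _ _ => Submodule.mem_top) top_ne_bot
  have hfix0 : Omega.CR.fx ρ (RGD.Sup X (RGD.Pos cs h)) ≠ ⊥ := by
    intro h0
    apply hv1
    rw [← Submodule.mem_bot k, ← h0]
    exact hv1'
  have hTfx : ∀ t ∈ T, ∀ v ∈ Omega.CR.fx ρ (RGD.Sup X (RGD.Pos cs h)), ρ t v ∈
      Omega.CR.fx ρ (RGD.Sup X (RGD.Pos cs h)) := by
    intro t ht v hv b hb
    have h1 := (Subgroup.mem_normalizer_iff.1 (inv_mem (R.T_le_normalizer_U ht)) b).1 hb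
    have h2 : b * t = t * (t⁻¹ * b * t⁻¹⁻¹) := by group
    rw [← Module.End.mul_apply, ← map_mul, h2, map_mul, Module.End.mul_apply, hv _ h1]
  obtain ⟨v0, hv0, hv00, χ, hχ⟩ := Omega.CR.exists_eigen ρ (T := T)
    (fun s hs t ht v => by rw [← Module.End.mul_apply, ← Module.End.mul_apply, ← map_mul, ← map_mul, hT s hs t ht])
    _ hTfx hfix0
  set N : Submodule k V := Submodule.span k {v0} with hN
  have hNs : Omega.CR.Simp ρ T N := by
    refine ⟨?_, ?_, ?_⟩
    · rw [hN, Ne, Submodule.span_singleton_eq_bot]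
      exact hv00
    · intro t ht v hv
      obtain ⟨c, rfl⟩ := Submodule.mem_span_singleton.1 hv
      rw [map_smul, hχ t ht]
      exact N.smul_mem _ (N.smul_mem _ (Submodule.mem_span_singleton_self v0))
    · intro L hL _
      by_cases hL0 : L = ⊥
      · exact Or.inl hL0
      · right
        refine le_antisymm hL ?_
        obtain ⟨x, hx, hx0⟩ := (Submodule.ne_bot_iff L).1 hL0
        obtain ⟨c, rfl⟩ := Submodule.mem_span_singleton.1 (hL hx)
        have hc : c ≠ 0 := by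
          rintro rfl
          exact hx0 (zero_smul _ _)
        rw [hN, Submodule.span_singleton_le_iff_mem]
        have := L.smul_mem c⁻¹ hx
        rwa [smul_smul, inv_mul_cancel₀ hc, one_smul] at this
  have hNU : N ≤ Omega.CR.fx ρ (RGD.Sup X (RGD.Pos cs h)) := by
    rw [hN, Submodule.span_singleton_le_iff_mem]
    exact hv0
  obtain ⟨w, g, -, h1, h2, h3⟩ := Omega.CR.exists_simul R ρ hNs hNU
  set f := Omega.CR.Tk cs h X ρ w g with hf
  have hmap : N.map f = Submodule.span k {f v0} := by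
    rw [hN, Submodule.map_span, Set.image_singleton]
  rw [hmap] at h1 h2 h3
  have hself := Submodule.mem_span_singleton_self (R := k) (f v0)
  refine ⟨f v0, ?_, h2 hself, ?_, ?_⟩
  · intro h0
    apply h1.ne
    rw [h0, Submodule.span_singleton_eq_bot]
  · intro t ht
    obtain ⟨c, hc⟩ := Submodule.mem_span_singleton.1 (h1.inv t ht _ hself)
    exact ⟨c, hc.symm⟩
  · intro i
    obtain ⟨c, hc⟩ := Submodule.mem_span_singleton.1 (h3 i _ hself)
    exact ⟨c, hc.symm⟩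

end vec

section odd

variable {m : ℕ} {F : Type*} [Field F]

theorem sie_eq' {u w : Ix m → F} {c : F} (hok : (PO (oddForm m F)).ok w c) (hu : quadOdd m F u = 0)
    (huw : polar (quadOdd m F) u w = 0) (huu : (HO (oddForm m F)).h u u = 0)
    (huw2 : (HO (oddForm m F)).h u w = 0) :
    (HO (oddForm m F)).sie u w c huu huw2 = siegel (quadOdd m F) u w hu huw := by
  have hu' : oddForm m F u = 0 := by rw [odd_eq]; exact hu
  have huw' : polar (oddForm m F) u w = 0 := by rw [odd_eq]; exact huw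
  rw [sie_eq (oddForm m F) huu huw2 hu' huw' hok, siegel_odd hu' huw' hu huw]

/-- the frame -/
noncomputable abbrev Fr (m : ℕ) (F : Type*) [Field F] : Frame (HO (oddForm m F)) (Fin m) := toFrame (wodd m F)

theorem X_eq' {a b : Fin m × Bool} (hab : a.1 ≠ b.1) (t : F) (hu : quadOdd m F ((Fr m F).b a) = 0)
    (huw : polar (quadOdd m F) ((Fr m F).b a) ((Fr m F).sc b t • (Fr m F).b b) = 0) :
    (Fr m F).X a b t = siegel (quadOdd m F) ((Fr m F).b a) ((Fr m F).sc b t • (Fr m F).b b) hu huw := by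
  rw [Frame.X_eq _ hab]
  exact sie_eq' ((PO (oddForm m F)).sing_smul (b_sing (wodd m F) b) _) hu huw _ _

theorem sc_surj (y : Fin m × Bool) (s : F) : ∃ t, (Fr m F).sc y t = s := by
  refine ⟨(HO (oddForm m F)).σ (-((HO (oddForm m F)).ε * ((Fr m F).η y)⁻¹ * s)), ?_⟩
  rw [Frame.sc, (HO (oddForm m F)).σσ]
  have h1 := (HO (oddForm m F)).ε_ne
  have h2 := (Fr m F).η_ne y
  field_simp

theorem nx_long {i : Fin m} (hi : i.1 + 1 < m) : nx i = (⟨i.1 + 1, hi⟩, false) := dif_pos hi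
theorem nx_short {i : Fin m} (hi : ¬ i.1 + 1 < m) : nx i = (i, true) := dif_neg hi

theorem mem_V0 {w : Ix m → F} (hw : w ∈ (wodd m F).V0) : w = w (.inl ()) • vz := by
  have hw' : ∀ j, w (Sum.inr j) = 0 := hw
  funext j
  rcases j with j | j
  · obtain rfl : j = () := rfl
    rw [Pi.smul_apply, vz_l, smul_eq_mul, mul_one]
  · rw [Pi.smul_apply, vz_r, smul_zero, hw']

/-- an admissible element -/
noncomputable def adm (m : ℕ) (s : F) : (Fr m F).Adm :=
  ⟨s • vz, -(oddForm m F) (s • vz), fun j => by rw [Pi.smul_apply, vz_r, smul_zero], rfl⟩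

theorem mem_rg_sr {i : Fin m} {g : (Ix m → F) ≃ₗ[F] (Ix m → F)} :
    g ∈ rg (Fr m F) (sr i) ↔ ∃ s : F, g = (xr i s : (Ix m → F) ≃ₗ[F] (Ix m → F)) := by
  rw [rg_sr]
  by_cases hi : i.1 + 1 < m
  · have hne : ((i, true) : Fin m × Bool).1 ≠ (nx i).1 := by
      rw [nx_long hi]; simp [Fin.ext_iff]
    have e : (nb i : Ix m → F) = vf ⟨i.1 + 1, hi⟩ := dif_pos hi
    rw [PG_ne _ hne, nx_long hi] at *
    rw [mem_XG]
    have key : ∀ t, (Fr m F).X (i, true) (⟨i.1 + 1, hi⟩, false) t =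
        (xr i ((Fr m F).sc (⟨i.1 + 1, hi⟩, false) t) : (Ix m → F) ≃ₗ[F] (Ix m → F)) := by
      intro t
      have hp : polar (quadOdd m F) (ve i) ((Fr m F).sc (⟨i.1 + 1, hi⟩, false) t • vf ⟨i.1 + 1, hi⟩) = 0 := by
        rw [← e]; exact ve_perp i _
      rw [X_eq' hne t (Q_ve i) hp]
      exact siegel_congr (Q_ve i) hp (Q_ve i) (ve_perp i _) rfl (by rw [e])
    constructor
    · rintro ⟨t, rfl⟩
      exact ⟨_, key t⟩
    · rintro ⟨s, rfl⟩
      obtain ⟨t, rfl⟩ := sc_surj (F := F) (⟨i.1 + 1, hi⟩, false) s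
      exact ⟨t, (key t).symm⟩
  · have e : (nb i : Ix m → F) = vz := dif_neg hi
    rw [nx_short hi, PG_self, mem_ZG]
    have key : ∀ p : (Fr m F).Adm, (Fr m F).Z (i, true) p =
        (xr i (p.w (.inl ())) : (Ix m → F) ≃ₗ[F] (Ix m → F)) := by
      intro p
      have hp : polar (quadOdd m F) (ve i) p.w = 0 := by
        rw [mem_V0 p.ok.1, ← e]; exact ve_perp i _
      refine (sie_eq' p.ok.2 (Q_ve i) hp _ _).trans ?_
      exact siegel_congr (Q_ve i) hp (Q_ve i) (ve_perp i _) rfl (by rw [e]; exact mem_V0 p.ok.1)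
    constructor
    · rintro ⟨t, rfl⟩
      exact ⟨_, key t⟩
    · rintro ⟨s, rfl⟩
      refine ⟨adm m s, ?_⟩
      rw [key]
      congr 2
      change s = (s • vz : Ix m → F) (.inl ())
      rw [Pi.smul_apply, vz_l, smul_eq_mul, mul_one]

theorem mem_rg_neg_sr {i : Fin m} {g : (Ix m → F) ≃ₗ[F] (Ix m → F)} :
    g ∈ rg (Fr m F) (-sr i) ↔ ∃ s : F, g = (yr i s : (Ix m → F) ≃ₗ[F] (Ix m → F)) := by
  rw [rg_neg_sr]
  by_cases hi : i.1 + 1 < m
  · have hne : (ng ((i, true) : Fin m × Bool)).1 ≠ (ng (nx i)).1 := by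
      rw [nx_long hi]; simp [Fin.ext_iff]
    have e : (nb' i : Ix m → F) = ve ⟨i.1 + 1, hi⟩ := dif_pos hi
    have e1 : ng ((i, true) : Fin m × Bool) = (i, false) := rfl
    have e2 : ng (nx i) = (⟨i.1 + 1, hi⟩, true) := by rw [nx_long hi]; rfl
    have hne' : ((i, false) : Fin m × Bool).1 ≠ ((⟨i.1 + 1, hi⟩, true) : Fin m × Bool).1 := by
      simp [Fin.ext_iff]
    rw [PG_ne _ hne, e1, e2, mem_XG]
    have key : ∀ t, (Fr m F).X (i, false) (⟨i.1 + 1, hi⟩, true) t =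
        (yr i (-(Fr m F).sc (⟨i.1 + 1, hi⟩, true) t) : (Ix m → F) ≃ₗ[F] (Ix m → F)) := by
      intro t
      have hp : polar (quadOdd m F) (vf i) ((Fr m F).sc (⟨i.1 + 1, hi⟩, true) t • ve ⟨i.1 + 1, hi⟩) = 0 := by
        rw [← e]; exact vf_perp i _
      rw [X_eq' hne' t (Q_vf i) hp]
      exact siegel_congr (Q_vf i) hp (Q_vf i) (vf_perp i _) rfl (by rw [e, _root_.neg_neg])
    constructor
    · rintro ⟨t, rfl⟩
      exact ⟨_, key t⟩
    · rintro ⟨s, rfl⟩
      obtain ⟨t, ht⟩ := sc_surj (F := F) (⟨i.1 + 1, hi⟩, true) (-s)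
      refine ⟨t, ?_⟩
      rw [key, ht, _root_.neg_neg]
  · have e : (nb' i : Ix m → F) = vz := dif_neg hi
    have e1 : ng ((i, true) : Fin m × Bool) = (i, false) := rfl
    rw [nx_short hi, PG_self, mem_ZG, e1]
    have key : ∀ p : (Fr m F).Adm, (Fr m F).Z (i, false) p =
        (yr i (-p.w (.inl ())) : (Ix m → F) ≃ₗ[F] (Ix m → F)) := by
      intro p
      have hp : polar (quadOdd m F) (vf i) p.w = 0 := by
        rw [mem_V0 p.ok.1, ← e]; exact vf_perp i _
      refine (sie_eq' p.ok.2 (Q_vf i) hp _ _).trans ?_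
      exact siegel_congr (Q_vf i) hp (Q_vf i) (vf_perp i _) rfl (by rw [e, _root_.neg_neg]; exact mem_V0 p.ok.1)
    constructor
    · rintro ⟨t, rfl⟩
      exact ⟨_, key t⟩
    · rintro ⟨s, rfl⟩
      refine ⟨adm m (-s), ?_⟩
      rw [key]
      congr 2
      change s = -((-s) • vz : Ix m → F) (.inl ())
      rw [Pi.smul_apply, vz_l, smul_eq_mul, mul_one, _root_.neg_neg]

theorem hA (h2 : (2 : F) ≠ 0) : Amb (Fr m F) (GG m F) := by
  have h := Cfsg.Agent.Nodes.RGDOrth.amb (wodd m F) h2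
  have e : E (oddForm m F) = GG m F := by rw [odd_eq]
  rw [e] at h
  exact h

theorem adm_c : (adm m (1 : F)).c ≠ 0 := by
  change -(oddForm m F) ((1 : F) • vz) ≠ 0
  rw [one_smul, odd_eq, Q_vz]
  exact neg_ne_zero.2 one_ne_zero

theorem rgd_odd [Finite F] {p : ℕ} [Fact p.Prime] [CharP F p] (hp2 : Odd p) (h2 : (2 : F) ≠ 0) :
    RGD (CoxeterMatrix.B m).toCoxeterSystem (isCartan m) p ((Tor (Fr m F) (GG m F)).subgroupOf (GG m F))
      (fun i => ⟨nn (Fr m F) (adm m 1) i, nn_mem (hA h2) _ i⟩) (fun x => (rg (Fr m F) x).subgroupOf (GG m F)) :=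
  rgd_restrict (Cfsg.Agent.Nodes.WittRGD.rgd (hA h2) hp2 adm_c _) (GG m F) (fun x _ => (hA h2).rg_le x) (fun i => nn_mem (hA h2) _ i)

theorem tor_mem_Tor {t : Fin m → Fˣ} (h : tor t ∈ GG m F) :
    (⟨tor t, h⟩ : GG m F) ∈ (Tor (Fr m F) (GG m F)).subgroupOf (GG m F) := by
  rw [Subgroup.mem_subgroupOf]
  refine ⟨h, ?_⟩
  rintro ⟨i, s⟩
  cases s
  · exact ⟨_, ((t i)⁻¹).ne_zero, tor_vf t i⟩
  · exact ⟨_, (t i).ne_zero, tor_ve t i⟩

theorem Tor_comm (h2 : (2 : F) ≠ 0) {s t : GG m F} (hs : s ∈ (Tor (Fr m F) (GG m F)).subgroupOf (GG m F))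
    (ht : t ∈ (Tor (Fr m F) (GG m F)).subgroupOf (GG m F)) : s * t = t * s := by
  rw [Subgroup.mem_subgroupOf] at hs ht
  have key : ∀ g : GG m F, (g : (Ix m → F) ≃ₗ[F] (Ix m → F)) ∈ Tor (Fr m F) (GG m F) →
      (∀ i, ∃ c : F, (g : (Ix m → F) ≃ₗ[F] (Ix m → F)) (ve i) = c • ve i) ∧
      (∀ i, ∃ c : F, (g : (Ix m → F) ≃ₗ[F] (Ix m → F)) (vf i) = c • vf i) ∧
      ∃ c : F, (g : (Ix m → F) ≃ₗ[F] (Ix m → F)) vz = c • vz := by
    intro g hg
    refine ⟨fun i => ?_, fun i => ?_, ?_⟩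
    · obtain ⟨c, -, hc⟩ := hg.2 (i, true)
      exact ⟨c, hc⟩
    · obtain ⟨c, -, hc⟩ := hg.2 (i, false)
      exact ⟨c, hc⟩
    · have h1 : (g : (Ix m → F) ≃ₗ[F] (Ix m → F)) vz ∈ (wodd m F).V0 :=
        (hA h2).map_V0 hg.1 hg.2 (fun _ => rfl) (show (vz : Ix m → F) ∈ (wodd m F).V0 from fun j => vz_r j)
      exact ⟨_, mem_V0 h1⟩
  obtain ⟨s1, s2, s3⟩ := key s hs
  obtain ⟨t1, t2, t3⟩ := key t ht
  apply Subtype.ext
  change (s : (Ix m → F) ≃ₗ[F] (Ix m → F)) * (t : (Ix m → F) ≃ₗ[F] (Ix m → F)) =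
    (t : (Ix m → F) ≃ₗ[F] (Ix m → F)) * (s : (Ix m → F) ≃ₗ[F] (Ix m → F))
  have aux : ∀ v : Ix m → F, (∃ c : F, (s : (Ix m → F) ≃ₗ[F] (Ix m → F)) v = c • v) →
      (∃ c : F, (t : (Ix m → F) ≃ₗ[F] (Ix m → F)) v = c • v) →
      ((s : (Ix m → F) ≃ₗ[F] (Ix m → F)) * (t : (Ix m → F) ≃ₗ[F] (Ix m → F))) v =
      ((t : (Ix m → F) ≃ₗ[F] (Ix m → F)) * (s : (Ix m → F) ≃ₗ[F] (Ix m → F))) v := by
    rintro v ⟨c, hc⟩ ⟨d, hd⟩
    rw [mul_apply', mul_apply', hd, hc, map_smul, map_smul, hc, hd, smul_comm]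
  exact eq_of_single (aux _ s3 t3) (fun j => aux _ (s1 j) (t1 j)) (fun j => aux _ (s2 j) (t2 j))

end odd

end Cfsg.Agent.H421.Uni
end

-- part: H421/Uni/Wt
section
/-!
# Theorem (U): `StWt`, simple modules of the finite group have weight vectors (helper421, for helper45)
-/

set_option autoImplicit false
set_option linter.unusedSectionVars false
set_option linter.unusedSimpArgs false

namespace Cfsg.Agent.H421.Uni

open QuadraticMap Cfsg.Agent.LieClassical Cfsg.Agent.LieClassical.OrthCore Cfsg.Agent.LieClassical.OmegaReindex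
  Cfsg.Agent.LieClassical.OrthForms Cfsg.Agent.H45.Uni
open CoxeterSystem Cfsg.Agent.ChevalleyStructure.CoxeterGeom Cfsg.Agent.Tits.Roots Cfsg.Agent.Tits.Core
  Cfsg.Agent.Nodes.Reps Cfsg.Agent.Nodes.BNOf Cfsg.Agent.Nodes.TypeC
  Cfsg.Agent.Nodes.WittRoot Cfsg.Agent.Nodes.WittRGD Cfsg.Agent.Nodes.RGDLib

/-- the torus element of the `i`th coroot -/
noncomputable def hh {m : ℕ} {F : Type*} [Field F] (i : Fin m) (b : Fˣ) : GG m F := ⟨tor (hvec i b), hvec_mem i b⟩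

section

variable {m : ℕ} {F : Type*} [Field F]

theorem hvec_mul (i : Fin m) (b c : Fˣ) : hvec i (b * c) = hvec i b * hvec i c := by
  funext j
  rw [Pi.mul_apply]
  unfold hvec
  split_ifs
  · rfl
  · rw [mul_inv]
  · rw [mul_one]
  · rw [mul_pow]
  · rw [mul_one]

theorem hh_mul (i : Fin m) (b c : Fˣ) : hh i (b * c) = hh i b * hh i c := by
  apply Subtype.ext
  change tor (hvec i (b * c)) = tor (hvec i b) * tor (hvec i c)
  rw [hvec_mul, tor_mul]

theorem rt_hvec (i : Fin m) (c : Fˣ) : rt i (hvec i c) = c ^ 2 := by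
  unfold rt
  by_cases hi : i.1 + 1 < m
  · have hne : (⟨i.1 + 1, hi⟩ : Fin m) ≠ i := by
      intro h
      have := congrArg Fin.val h
      simp at this
    simp [hi, hvec, hne, pow_two]
  · simp [hi, hvec]

theorem hh_x (i : Fin m) (c : Fˣ) (a : F) : hh i c * xr i a = xr i ((c : F) ^ 2 * a) * hh i c := by
  have := (stTor (hvec i c) (hvec_mem i c) i a).1
  rw [rt_hvec, Units.val_pow_eq_pow_val] at this
  exact this

end

theorem xr_inj {m : ℕ} {F : Type*} [Field F] (i : Fin m) : Function.Injective (fun s : F => (xr i s : GG m F)) := by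
  intro s t h
  have h1 : (xr i s : (Ix m → F) ≃ₗ[F] (Ix m → F)) (vf i) = (xr i t : (Ix m → F) ≃ₗ[F] (Ix m → F)) (vf i) :=
    congrArg (fun g : GG m F => (g : (Ix m → F) ≃ₗ[F] (Ix m → F)) (vf i)) h
  by_cases hi : i.1 + 1 < m
  · rw [xr_long hi, xr_long hi] at h1
    have h3 := congrFun h1 (.inr (.inr ⟨i.1 + 1, hi⟩))
    simp only [Pi.add_apply, Pi.sub_apply, Pi.smul_apply, smul_eq_mul, vf_f, vf_e, ve_f] at h3
    simpa using h3
  · rw [xr_short hi, xr_short hi] at h1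
    have h3 := congrFun h1 (.inl ())
    simp only [Pi.add_apply, Pi.sub_apply, Pi.smul_apply, smul_eq_mul, vf_f, vf_e, ve_l, vf_l, vz_l] at h3
    simpa using h3

theorem yr_ne {m : ℕ} {F : Type*} [Field F] (i : Fin m) : (yr i (1 : F) : GG m F) ≠ 1 := by
  intro h
  have h1 : (yr i (1 : F) : (Ix m → F) ≃ₗ[F] (Ix m → F)) (ve i) = ve i :=
    congrArg (fun g : GG m F => (g : (Ix m → F) ≃ₗ[F] (Ix m → F)) (ve i)) h
  by_cases hi : i.1 + 1 < m
  · rw [yr_long hi] at h1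
    have h3 := congrFun h1 (.inr (.inl ⟨i.1 + 1, hi⟩))
    simp only [Pi.add_apply, Pi.sub_apply, Pi.smul_apply, smul_eq_mul, vf_e, ve_e, ve_f] at h3
    simp at h3
  · rw [yr_short hi] at h1
    have h3 := congrFun h1 (.inl ())
    simp only [Pi.add_apply, Pi.sub_apply, Pi.smul_apply, smul_eq_mul, vf_e, ve_e, ve_l, vf_l, vz_l] at h3
    simp at h3

theorem stWt {m p : ℕ} {F : Type*} [Field F] [Fintype F] [Fact p.Prime] [CharP F p] (hp2 : Odd p)
    {k : Type*} [Field k] [Algebra F k] [IsAlgClosed k] {W : Type*} [AddCommGroup W] [Module k W] :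
    StWt m F k W := by
  classical
  intro ρ hfd hnt _
  have hcp : CharP k p := charP_of_injective_algebraMap (algebraMap F k).injective p
  have h2 : (2 : F) ≠ 0 := by
    intro h0
    have h1 : ((2 : ℕ) : F) = 0 := by exact_mod_cast h0
    rw [CharP.cast_eq_zero_iff F p] at h1
    have h3 := (Nat.prime_dvd_prime_iff_eq (Fact.out : p.Prime) Nat.prime_two).1 h1
    subst h3
    exact absurd hp2 (by decide)
  have h2k : (2 : k) ≠ 0 := by
    intro h0
    apply h2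
    apply (algebraMap F k).injective
    rw [map_zero, ← h0, map_ofNat]
  have hfinW : Finite (CoxeterMatrix.B m).Group := finite_W (CoxeterMatrix.B m).toCoxeterSystem
  have hR := rgd_odd (m := m) (F := F) hp2 h2
  have hfinL : Finite ((Ix m → F) ≃ₗ[F] (Ix m → F)) :=
    Finite.of_injective (fun g : (Ix m → F) ≃ₗ[F] (Ix m → F) => (g : (Ix m → F) → (Ix m → F))) DFunLike.coe_injective
  have hfinY : Finite (GG m F) := inferInstance
  obtain ⟨v, hv, hfix, hTv, hTi⟩ := exists_vec hR ρ (fun s hs t ht => Tor_comm h2 hs ht)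
  have hfix' : ∀ i (s : F), ρ (xr i s) v = v := by
    intro i s
    refine Omega.CR.X_fix hR ρ hfix i (x := xr i s) ?_
    rw [Subgroup.mem_subgroupOf]
    exact mem_rg_sr.2 ⟨s, rfl⟩
  have hT' : ∀ i b, ∃ c : k, ρ (hh i b) v = c • v := fun i b => hTv _ (tor_mem_Tor _)
  have hθ : ∀ i, ∃ θ : k, ∑ s, ρ (xr i s) (ρ (yr i 1) v) = θ • v := by
    intro i
    have hmx : ∀ s : F, xr i s ∈ (rg (Fr m F) (sr i)).subgroupOf (GG m F) := by
      intro s
      rw [Subgroup.mem_subgroupOf]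
      exact mem_rg_sr.2 ⟨s, rfl⟩
    have hsum : ∀ w : W, ∑ s, ρ (xr i s) w = Omega.CR.sg ρ ((rg (Fr m F) (sr i)).subgroupOf (GG m F)) w := by
      intro w
      let _ := Fintype.ofFinite ((rg (Fr m F) (sr i)).subgroupOf (GG m F))
      rw [Omega.CR.sg_def]
      refine Fintype.sum_bijective (fun s : F => (⟨xr i s, hmx s⟩ : (rg (Fr m F) (sr i)).subgroupOf (GG m F)))
        ⟨?_, ?_⟩ _ _ fun s => rfl
      · intro s t h
        exact xr_inj i (congrArg Subtype.val h)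
      · rintro ⟨g, hg⟩
        rw [Subgroup.mem_subgroupOf] at hg
        obtain ⟨s, hs⟩ := mem_rg_sr.1 hg
        exact ⟨s, Subtype.ext (Subtype.ext hs.symm)⟩
    obtain ⟨a, ha, t, ht, b, hb, e⟩ := hR.rk1 i (yr i 1) (by
      rw [Subgroup.mem_subgroupOf]
      exact mem_rg_neg_sr.2 ⟨1, rfl⟩) (yr_ne i)
    obtain ⟨c, hc⟩ := hTi i
    obtain ⟨d, hd⟩ := hTv t ht
    refine ⟨c * d, ?_⟩
    rw [hsum, e, map_mul, map_mul, map_mul, Module.End.mul_apply, Module.End.mul_apply, Module.End.mul_apply,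
      Omega.CR.X_fix hR ρ hfix i hb, Omega.CR.sg_rho_of_mem ρ _ ha]
    have h3 : ∀ w, Omega.CR.sg ρ ((rg (Fr m F) (sr i)).subgroupOf (GG m F)) (ρ t w) =
        ρ t (Omega.CR.sg ρ ((rg (Fr m F) (sr i)).subgroupOf (GG m F)) w) := by
      intro w
      rw [Omega.CR.rho_sg ρ _ t w]
      congr 2
      exact (hR.tor _ (isRoot_sr (CoxeterMatrix.B m).toCoxeterSystem (isCartan m) i) t ht).symm
    rw [h3]
    rw [Omega.CR.Ti_apply] at hc
    rw [hc, map_smul, hd, smul_smul]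
  have key := fun i => rank_one h2 ρ (fun s => xr i s) (fun s => yr i s) (fun b => hh i b)
    (fun s t => (xr_mul i s t).symm) (fun s t => (yr_mul i s t).symm) (hh_mul i)
    (fun a s c hc => by
      obtain ⟨h, e⟩ := stRank i a s c hc
      exact e) (fun c a => hh_x i c a) hv (hfix' i) (hT' i) (hθ i)
  choose a ha ha1 ha2 using key
  refine ⟨v, a, hv, ha, ?_, ⟨hfix', fun i b h => ha1 i b, ha2⟩⟩
  intro i hi
  -- `hvec i (-1) = 1`
  have h1 : hh i (-1 : Fˣ) = 1 := by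
    apply Subtype.ext
    change tor (hvec i (-1)) = 1
    have : hvec i (-1 : Fˣ) = 1 := by
      funext j
      simp [hvec, hi]
    rw [this, tor_one]
  have h3 := ha1 i (-1)
  rw [h1, map_one, Module.End.one_apply, Units.val_neg, Units.val_one, map_neg, map_one] at h3
  have h4 : (-1 : k) ^ a i = 1 := by
    apply smul_left_injective k hv
    change (-1 : k) ^ a i • v = (1 : k) • v
    rw [one_smul]
    exact h3.symm
  by_contra ho
  rw [Nat.not_even_iff_odd] at ho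
  rw [ho.neg_one_pow] at h4
  apply h2k
  linear_combination - h4

end Cfsg.Agent.H421.Uni
end
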